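import Cfsg.Agent.H508.KB.Defs
import Cfsg.Agent.H523.FpfChev
import Cfsg.Agent.H53.HC.Flag_m3
import Cfsg.Agent.H622.Levi.NonSwap
import Cfsg.Agent.KFacts.RgdTau
import Cfsg.Agent.OddHalf.D4.Spor.MTwentyFour_m3
import Cfsg.Agent.H936.DSRgd
import Cfsg.Agent.H804.Ext.RowsE
import Cfsg.Agent.FastGrp
import Cfsg.Agent.Prune
set_option linter.all false
prune_inst 0x7ffcadfbadf99fffffff7e3ffef8dfffd8cccfffe6dffbfbffe8e9bfabdf2308b9e5fb8dfde052ff1ff762b610b87843fb7eeeffea6bdc7ffffd5ff45ffbee4ff5f7bd8851d684240fbc4fffe3f0778a7f3fffffffffffffffffffffffffffbeffffffffffff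
open scoped Cfsg.Agent.FastGrp

-- part: H804/KB/AbBase
section
/-!
# S4822, AO: groups with abelian outer automorphism group modulo the centralizer of a Sylow subgroup (helper804)

* `CommOut S` : the commutators of automorphisms are inner; `abOut_of_commOut`;
* `AbP p S` : the commutators of automorphisms are inner on the `p`-subgroups; `abOut_of_abP`, `AbP.congr`, `abP_of_sylow`;
* `abP_of_cyclic` : cyclic Sylow subgroups;
* `commOut_of_hom` : a homomorphism to a cyclic group;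
* `commOut_of_ker`, `abP_of_ker` : a homomorphism with kernel `Inn` or `Inn ⟨δ⟩`.
-/

set_option autoImplicit false
set_option linter.unusedSectionVars false

open Cfsg Subgroup
open scoped Pointwise

namespace Cfsg.Agent.H804.KB

universe u v

open Cfsg.Agent.H508.KB

/-- the commutators of automorphisms are inner -/
def CommOut (S : Type u) [Group S] : Prop :=
  ∀ α β : MulAut S, ∃ s : S, α * β * α⁻¹ * β⁻¹ = MulAut.conj s

/-- the commutators of automorphisms are inner on every `p`-subgroup -/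
def AbP (p : ℕ) (S : Type u) [Group S] : Prop :=
  ∀ (P : Subgroup S), IsPGroup p P → ∀ α β : MulAut S, ∃ s : S, ∀ x ∈ P, (α * β * α⁻¹ * β⁻¹) x = s * x * s⁻¹

theorem AbP.abOut {p : ℕ} {S : Type u} [Group S] (h : AbP p S) : AbOut p S :=
  fun P _ _ _ α _ β _ => h P P.isPGroup' α β

theorem CommOut.abP {S : Type u} [Group S] (h : CommOut S) (p : ℕ) : AbP p S := by
  intro P _ α β
  obtain ⟨s, hs⟩ := h α β
  exact ⟨s, fun x _ => by rw [hs, MulAut.conj_apply]⟩

theorem CommOut.of_equiv {S : Type u} {S' : Type v} [Group S] [Group S'] (e : S ≃* S') (h : CommOut S') : CommOut S := by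
  intro α β
  obtain ⟨s, hs⟩ := h (MulAut.congr e α) (MulAut.congr e β)
  refine ⟨e.symm s, ?_⟩
  apply (MulAut.congr e).injective
  rw [map_mul, map_mul, map_mul, map_inv, map_inv, hs]
  ext x
  simp only [MulAut.congr, MulAut.conj_apply, _root_.MulEquiv.coe_mk, _root_.Equiv.coe_fn_mk, _root_.MulEquiv.trans_apply, _root_.map_mul, _root_.MulEquiv.apply_symm_apply, _root_.map_inv]

theorem AbP.of_equiv {p : ℕ} {S : Type u} {S' : Type v} [Group S] [Group S'] (e : S ≃* S') (h : AbP p S') : AbP p S := by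
  intro P hP α β
  obtain ⟨s, hs⟩ := h (P.map e.toMonoidHom) (hP.map _) (MulAut.congr e α) (MulAut.congr e β)
  refine ⟨e.symm s, fun x hx => ?_⟩
  have h1 := hs (e x) ⟨x, hx, rfl⟩
  have h2 : (MulAut.congr e α * MulAut.congr e β * (MulAut.congr e α)⁻¹ * (MulAut.congr e β)⁻¹) (e x) =
      e ((α * β * α⁻¹ * β⁻¹) x) := by
    rw [← map_inv, ← map_inv, ← map_mul, ← map_mul, ← map_mul]
    change e ((α * β * α⁻¹ * β⁻¹) (e.symm (e x))) = _
    rw [e.symm_apply_apply]
  rw [h2] at h1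
  apply e.injective
  rw [h1, map_mul, map_mul, map_inv, e.apply_symm_apply]

/-- it is enough to look at one Sylow subgroup -/
theorem abP_of_sylow {p : ℕ} [Fact p.Prime] {S : Type u} [Group S] [Finite S] (P : Sylow p S)
    (h : ∀ α β : MulAut S, ∃ s : S, ∀ x ∈ P, (α * β * α⁻¹ * β⁻¹) x = s * x * s⁻¹) : AbP p S := by
  intro Q hQ α β
  obtain ⟨R, hR⟩ := hQ.exists_le_sylow
  obtain ⟨g, hg⟩ := MulAction.exists_smul_eq S P R
  obtain ⟨s, hs⟩ := h α β
  set δ := α * β * α⁻¹ * β⁻¹ with hδ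
  refine ⟨δ g * s * g⁻¹, fun x hx => ?_⟩
  have h1 : x ∈ (g • P : Sylow p S) := by rw [hg]; exact hR hx
  obtain ⟨y, hy, rfl⟩ : ∃ y ∈ P, x = g * y * g⁻¹ := by
    have h2 : x ∈ ((MulAut.conj g) • (P : Subgroup S) : Subgroup S) := h1
    obtain ⟨y, hy, e⟩ := h2
    exact ⟨y, hy, e.symm⟩
  rw [map_mul, map_mul, map_inv, hs y hy]
  group

theorem commOut_of_cycOut {S : Type u} [Group S] (h : H523.CycOut S) : CommOut S := by
  have hn := H523.conj_range_normal S
  obtain ⟨γ, hγ⟩ := h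
  intro α β
  have h1 : ∀ α : MulAut S, ∃ k : ℤ, QuotientGroup.mk' (MulAut.conj : S →* MulAut S).range α =
      QuotientGroup.mk' (MulAut.conj : S →* MulAut S).range γ ^ k := by
    intro α
    obtain ⟨g, k, e⟩ := hγ α
    refine ⟨k, ?_⟩
    have : QuotientGroup.mk' (MulAut.conj : S →* MulAut S).range (MulAut.conj g) = 1 :=
      (QuotientGroup.eq_one_iff _).2 ⟨g, rfl⟩
    rw [e, map_mul, this, one_mul, map_zpow]
  obtain ⟨k, hk⟩ := h1 α
  obtain ⟨m, hm⟩ := h1 β
  have h2 : α * β * α⁻¹ * β⁻¹ ∈ (MulAut.conj : S →* MulAut S).range := by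
    rw [← QuotientGroup.eq_one_iff, ← QuotientGroup.mk'_apply]
    simp only [map_mul, map_inv, hk, hm]
    rw [← zpow_neg, ← zpow_neg, ← zpow_add, ← zpow_add, ← zpow_add]
    simp
  obtain ⟨s, hs⟩ := h2
  exact ⟨s, hs.symm⟩

/-- **A homomorphism to a cyclic group with small kernel.** -/
theorem commOut_of_hom {S : Type u} [Group S] [Finite S] {Γ : Type v} [Group Γ] [Finite Γ] [IsCyclic Γ]
    (f : MulAut S →* Γ) (hf : Function.Surjective f) (hI : ∀ g, f (MulAut.conj g) = 1) {m : ℕ}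
    (hcard : Nat.card (Cfsg.Out S) = m * Nat.card Γ) (hm : m ≤ 2) : CommOut S := by
  have hn : (Cfsg.Inn S).Normal := H523.conj_range_normal S
  have hle : Cfsg.Inn S ≤ f.ker := by
    rintro _ ⟨g, rfl⟩
    exact hI g
  let F : Cfsg.Out S →* Γ := QuotientGroup.lift (Cfsg.Inn S) f hle
  have hF : Function.Surjective F := fun y => by
    obtain ⟨x, rfl⟩ := hf y
    exact ⟨QuotientGroup.mk x, rfl⟩
  have hfin : Finite (Cfsg.Out S) := by
    have : Finite (MulAut S) := inferInstance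
    exact Quotient.finite _
  have h1 : Nat.card F.ker = m := by
    have h2 := Subgroup.card_mul_index F.ker
    rw [Subgroup.index_ker, MonoidHom.range_eq_top.2 hF, Subgroup.card_top, hcard] at h2
    exact Nat.eq_of_mul_eq_mul_right Nat.card_pos h2
  have hcen : F.ker ≤ Subgroup.center (Cfsg.Out S) := by
    intro z hz
    rw [Subgroup.mem_center_iff]
    intro g
    by_contra hne
    have hz1 : z ≠ 1 := by
      rintro rfl
      exact hne (by rw [mul_one, one_mul])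
    have hc : g * z * g⁻¹ ∈ F.ker := (MonoidHom.normal_ker F).conj_mem z hz g
    have hc1 : g * z * g⁻¹ ≠ 1 := by
      intro h2
      apply hz1
      have h3 := mul_inv_eq_one.1 h2
      exact mul_eq_left.1 h3
    have hc2 : g * z * g⁻¹ ≠ z := by
      intro h2
      exact hne (mul_inv_eq_iff_eq_mul.1 h2)
    have h3 : 3 ≤ Nat.card F.ker := by
      have h4 : ({1, z, g * z * g⁻¹} : Set (Cfsg.Out S)).ncard = 3 := by
        rw [Set.ncard_eq_three]
        exact ⟨1, z, g * z * g⁻¹, hz1.symm, hc1.symm, hc2.symm, rfl⟩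
      have h5 : ({1, z, g * z * g⁻¹} : Set (Cfsg.Out S)) ⊆ (F.ker : Set (Cfsg.Out S)) := by
        rintro x (rfl | rfl | rfl)
        · exact one_mem _
        · exact hz
        · exact hc
      rw [← h4]
      calc ({1, z, g * z * g⁻¹} : Set (Cfsg.Out S)).ncard ≤ (F.ker : Set (Cfsg.Out S)).ncard :=
            Set.ncard_le_ncard h5 (Set.toFinite _)
        _ = Nat.card F.ker := Nat.card_coe_set_eq _
    omega
  have hcomm : ∀ a b : Cfsg.Out S, a * b = b * a :=
    fun a b => (F.isMulCommutative_of_isCyclic_of_ker_le_center hcen).is_comm.comm a b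
  intro α β
  have h2 : α * β * α⁻¹ * β⁻¹ ∈ Cfsg.Inn S := by
    rw [← QuotientGroup.eq_one_iff]
    change (QuotientGroup.mk α * QuotientGroup.mk β * (QuotientGroup.mk α)⁻¹ * (QuotientGroup.mk β)⁻¹ : Cfsg.Out S) = 1
    rw [hcomm (QuotientGroup.mk α) (QuotientGroup.mk β)]
    group
  obtain ⟨s, hs⟩ := h2
  exact ⟨s, hs.symm⟩

/-- a homomorphism with small kernel, the induced map on the outer automorphism group -/
theorem card_ker_le {S : Type u} [Group S] [Finite S] {Γ : Type v} [Group Γ] (l : MulAut S →* Γ)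
    (h1 : ∀ g, l (MulAut.conj g) = 1) {m : ℕ} (h3 : Nat.card (Cfsg.Out S) ≤ m * Nat.card l.range) :
    ∃ F : Cfsg.Out S →* Γ, (∀ α, F (QuotientGroup.mk α) = l α) ∧ Nat.card F.ker ≤ m := by
  have hle : Cfsg.Inn S ≤ l.ker := by
    rintro _ ⟨g, rfl⟩
    exact h1 g
  have hfin : Finite (Cfsg.Out S) := by
    have : Finite (MulAut S) := inferInstance
    exact Quotient.finite _
  let F : Cfsg.Out S →* Γ := QuotientGroup.lift (Cfsg.Inn S) l hle
  have hF : ∀ α, F (QuotientGroup.mk α) = l α := fun α => rfl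
  refine ⟨F, hF, ?_⟩
  have hr : F.range = l.range := by
    ext y
    constructor
    · rintro ⟨x, rfl⟩
      obtain ⟨α, rfl⟩ := QuotientGroup.mk_surjective x
      exact ⟨α, (hF α).symm⟩
    · rintro ⟨α, rfl⟩
      exact ⟨_, hF α⟩
  have h2 := Subgroup.card_mul_index F.ker
  rw [Subgroup.index_ker, hr] at h2
  have hpos : 0 < Nat.card l.range := by
    have : Finite F.range := Finite.of_surjective F.rangeRestrict F.rangeRestrict_surjective
    rw [← hr]
    exact Nat.card_pos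
  rw [← h2] at h3
  exact Nat.le_of_mul_le_mul_right h3 hpos

/-- **The commutators are inner.** -/
theorem commOut_of_ker {S : Type u} [Group S] [Finite S] {Γ : Type v} [Group Γ] (l : MulAut S →* Γ)
    (h1 : ∀ g, l (MulAut.conj g) = 1) (h2 : ∀ α β, l (α * β * α⁻¹ * β⁻¹) = 1)
    (h3 : Nat.card (Cfsg.Out S) ≤ 1 * Nat.card l.range) : CommOut S := by
  obtain ⟨F, hF, hc⟩ := card_ker_le l h1 h3
  have hfin : Finite (Cfsg.Out S) := by
    have : Finite (MulAut S) := inferInstance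
    exact Quotient.finite _
  have h4 : F.ker = ⊥ := Subgroup.eq_bot_of_card_le _ hc
  intro α β
  have h5 : (QuotientGroup.mk (α * β * α⁻¹ * β⁻¹) : Cfsg.Out S) ∈ F.ker := by
    rw [MonoidHom.mem_ker, hF, h2]
  rw [h4, Subgroup.mem_bot, QuotientGroup.eq_one_iff] at h5
  obtain ⟨s, hs⟩ := h5
  exact ⟨s, hs.symm⟩

end Cfsg.Agent.H804.KB
end

-- part: H728/Ext/Num
section
/-!
# Cuspidal characters of `SL_3(F)` are not invariant under field automorphisms (helper728, S4832, EXT-E7)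

`F` finite, `|F| ≠ 4`, `[L : F] = 3`, `Θ = powTheta θ (q - 1)` with `θ : L →*₀ ℂ` injective, `η` an irreducible
constituent of the restriction of `psi L Θ` to `SL_3(F)`:

* `not_dir` : `η` is not invariant under `x ↦ C x^τ C⁻¹`, `τ ≠ 1`.
-/

set_option autoImplicit false
set_option linter.unusedSectionVars false

open Polynomial Cfsg
open scoped ComplexConjugate

namespace Cfsg.Agent.H728.Ext

open Cfsg.Agent.H139.Cusp Cfsg.Agent.Characters Cfsg.Agent.H53.HC.Gal Matrix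

universe u w

variable {F : Type u} [Field F] [Finite F] {L : Type w} [Field L] [Finite L] [Algebra F L]
  {θ : L →*₀ ℂ} (hθ : Function.Injective θ)

include hθ

end Cfsg.Agent.H728.Ext
end

-- part: H728/Ext/A2
section
/-!
# Generic cuspidal characters of the Levi subgroups of type `A_2` (helper728, S4832, EXT-E7)

`θ` on `M_K`, `K = {k₀, k₁}` of type `A_2`, is not invariant under

* the automorphisms `γ` of the group which interchange the root groups of `k₀` and `k₁` (`SwapA`);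
* the automorphisms `γ` which fix the root groups (`DirA`) and are not linear (`NonLin`) on `X_{k₀}`.

`exists_a2A` : the characters.
-/

set_option autoImplicit false
set_option linter.unusedSectionVars false

namespace Cfsg.Agent.H728.Ext

open Cfsg Cfsg.Agent.Characters CoxeterSystem Cfsg.Agent.ChevalleyStructure.CoxeterGeom Cfsg.Agent.Tits.Roots
  Cfsg.Agent.Tits.Core Cfsg.Agent.Nodes.Reps Cfsg.Agent.Nodes.BNOf Cfsg.Agent.Nodes.StabComb
open Cfsg.Agent.LieRecognition.BNCox (cA)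
open Cfsg.Agent.TitsThree.KSideA (tv tv_of_ne tv_add tv_zero tv_neg tv_comm)
open Cfsg.Agent.H622.Levi
open Matrix
open scoped commutatorElement ComplexConjugate

section lin

variable {F : Type*} [Field F]

end lin

section semi

variable {F : Type*} [Field F] {Y : Type*} [Group Y] {φ : _root_.Matrix.SpecialLinearGroup (Fin 3) F →* Y}

end semi

variable {I W Y : Type*} [Fintype I] [DecidableEq I] [Group W] [Group Y] {M : CoxeterMatrix I}
  {cs : CoxeterSystem M W} {A : I → I → ℤ} {h : IsCartan M A} {p : ℕ} {T : Subgroup Y} {n : I → Y}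
  {X : (I → ℤ) → Subgroup Y}

/-- `γ` interchanges the root groups of `k₀` and `k₁` -/
structure SwapA (X : (I → ℤ) → Subgroup Y) (k₀ k₁ : I) (γ : MulAut Y) : Prop where
  h1 : ∀ u ∈ X (sr k₀), γ u ∈ X (sr k₁)
  h2 : ∀ u ∈ X (sr k₁), γ u ∈ X (sr k₀)
  h3 : ∀ u ∈ X (-sr k₀), γ u ∈ X (-sr k₁)
  h4 : ∀ u ∈ X (-sr k₁), γ u ∈ X (-sr k₀)

/-- `γ` fixes the root groups of `k₀` and `k₁` -/
structure DirA (X : (I → ℤ) → Subgroup Y) (k₀ k₁ : I) (γ : MulAut Y) : Prop where
  h1 : ∀ u ∈ X (sr k₀), γ u ∈ X (sr k₀)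
  h2 : ∀ u ∈ X (sr k₁), γ u ∈ X (sr k₁)
  h3 : ∀ u ∈ X (-sr k₀), γ u ∈ X (-sr k₀)
  h4 : ∀ u ∈ X (-sr k₁), γ u ∈ X (-sr k₁)

section co

variable {F : Type} [Field F] {φ : _root_.Matrix.SpecialLinearGroup (Fin 3) F →* Y}

variable {k : Fin 2 → I} (C : Co X k F φ)
include C

end co

section final

open Cfsg.Agent.H53.HC (conjME conjME_coe NonSwap Cusp)

variable [Finite W] [Finite Y]

variable {F : Type} [Field F] [Finite F] {φ : _root_.Matrix.SpecialLinearGroup (Fin 3) F →* Y} {k : Fin 2 ↪ I}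

end final

end Cfsg.Agent.H728.Ext
end

-- part: H728/Ext/Stab
section
/-!
# Product characters and automorphisms (helper728, S4832, EXT-E7)

`J` = all nodes but `j`, `K = {k₀, k₁}` a component of type `A_2`.

* `eq_one_of_perm` : an element of `W_J` which permutes the simple roots of `J` is trivial;
* `two_of_A2` : the product character `ψ` on `M_J` satisfies `ψ ∘ β ∘ g⁻¹ ≠ ψ` for all representatives `g` of the elements
  permuting the simple roots of `J`, if `β` fixes the root groups and `θ` (on `M_K`) is not fixed by `β ∘ t` for `t ∈ T`;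
* `notFix_of_tau` : the elements `β ∘ t`, `β` with the field automorphism `τ ≠ 1`.
-/

set_option autoImplicit false
set_option linter.unusedSectionVars false

open scoped ComplexConjugate
open Cfsg

namespace Cfsg.Agent.H728.Ext

open Cfsg.Agent.H53.HC Cfsg.Agent.Characters
open CoxeterSystem Cfsg.Agent.ChevalleyStructure.CoxeterGeom Cfsg.Agent.Tits.Roots Cfsg.Agent.Tits.Core
  Cfsg.Agent.Tits.Exchange Cfsg.Agent.Nodes.Reps Cfsg.Agent.Nodes.BNOf Cfsg.Agent.Nodes.StabComb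
  Cfsg.Agent.Nodes.Bruhat Cfsg.Agent.Nodes.OppDec Cfsg.Agent.Nodes.LeviDec
open Cfsg.Agent.KFacts.RgdAut Cfsg.Agent.KFacts.RgdDiag Cfsg.Agent.KFacts.RgdField Cfsg.Agent.KFacts.RgdTau

variable {I W Y : Type*} [Fintype I] [DecidableEq I] [Group W] [Group Y] {M : CoxeterMatrix I}
  {cs : CoxeterSystem M W} {A : I → I → ℤ} {h : IsCartan M A} {p : ℕ} {T : Subgroup Y} {n : I → Y}
  {X : (I → ℤ) → Subgroup Y}

variable (R : RGD cs h p T n X)

include R

variable {F : Type*} [Field F] {x : (I → ℤ) → F → Y} {χ : (I → ℤ) → Y → F} {hh : I → F → Y}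

/-- inner automorphisms from the torus have trivial field automorphism -/
theorem tau_conj [Finite W] (C : Coords cs h T n X x χ) {t : Y} (ht : t ∈ T) :
    Tau T X χ A (MulAut.conj t) 1 1 where
  diag := {
    tor := fun y => by
      rw [MulAut.conj_apply]
      constructor
      · intro h1
        have := mul_mem (mul_mem (inv_mem ht) h1) ht
        rwa [← mul_assoc, ← mul_assoc, inv_mul_cancel, one_mul, inv_mul_cancel_right] at this
      · intro h1
        exact mul_mem (mul_mem ht h1) (inv_mem ht)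
    pos := fun i y => by
      have h1 := R.tor _ (isRoot_sr cs h i) t ht
      change MulAut.conj t y ∈ X (sr i) ↔ y ∈ X (sr i)
      constructor
      · intro h2
        rw [← h1, mem_cj] at h2
        rw [MulAut.conj_apply] at h2
        have : t⁻¹ * (t * y * t⁻¹) * t = y := by group
        rwa [this] at h2
      · intro h2
        rw [← h1, mem_cj, MulAut.conj_apply]
        have : t⁻¹ * (t * y * t⁻¹) * t = y := by group
        rwa [this]
    neg := fun i y => by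
      have h1 := R.tor _ (isRoot_sr cs h i).neg t ht
      change MulAut.conj t y ∈ X (-sr i) ↔ y ∈ X (-sr i)
      constructor
      · intro h2
        rw [← h1, mem_cj] at h2
        rw [MulAut.conj_apply] at h2
        have : t⁻¹ * (t * y * t⁻¹) * t = y := by group
        rwa [this] at h2
      · intro h2
        rw [← h1, mem_cj, MulAut.conj_apply]
        have : t⁻¹ * (t * y * t⁻¹) * t = y := by group
        rwa [this] }
  cartan _ _ := rfl
  char i s hs := by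
    change χ (sr i) (MulAut.conj t s) = χ (sr i) s
    rw [MulAut.conj_apply]
    exact (C.coord _ (isRoot_sr cs h i)).chi_conj ht hs

end Cfsg.Agent.H728.Ext
end

-- part: H728/Ext/OutHom
section
/-!
# The outer automorphism homomorphism of a root group datum with coordinates (helper728, S4832, EXT-E7)

`exists_outHom` : `Aut Y → Sym(I) × Aut(F)`, trivial on inner automorphisms; every automorphism is the product of an
inner automorphism and a frame automorphism with these data.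
-/

set_option autoImplicit false
set_option linter.unusedSectionVars false

namespace Cfsg.Agent.H728.Ext

open CoxeterSystem Cfsg.Agent.ChevalleyStructure.CoxeterGeom Cfsg.Agent.Tits.Roots Cfsg.Agent.Tits.Core
  Cfsg.Agent.Tits.Exchange Cfsg.Agent.Nodes.Reps Cfsg.Agent.Nodes.BNOf Cfsg.Agent.Nodes.StabComb
  Cfsg.Agent.Nodes.Bruhat Cfsg.Agent.Nodes.OppDec Cfsg.Agent.Nodes.LeviDec Cfsg.Agent.Nodes.NormalForm
  Cfsg.Agent.KFacts.RgdOpp Cfsg.Agent.KFacts.RgdAut Cfsg.Agent.KFacts.RgdDiag Cfsg.Agent.KFacts.RgdRigid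
  Cfsg.Agent.KFacts.RgdField Cfsg.Agent.KFacts.RgdTau

variable {I W Y : Type*} [Fintype I] [DecidableEq I] [Group W] [Group Y] {M : CoxeterMatrix I}
  {cs : CoxeterSystem M W} {A : I → I → ℤ} {h : IsCartan M A} {p : ℕ} {T : Subgroup Y} {n : I → Y}
  {X : (I → ℤ) → Subgroup Y} {F : Type*} [Field F] {x : (I → ℤ) → F → Y} {χ : (I → ℤ) → Y → F} {hh : I → F → Y}

variable (R : RGD cs h p T n X) [Finite W] [Finite Y] [Nonempty I] [Fact p.Prime]
  (hG1 : RGD.Sup X {x | IsRoot cs h x} = ⊤) (C : Coords cs h T n X x χ)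

include R hG1 C

/-- an inner automorphism of the frame has trivial diagram symmetry and trivial field automorphism -/
theorem tau_inner {z : Y} {σ : Equiv.Perm I} {τ : F ≃+* F} (B : Tau T X χ A (MulAut.conj z) σ τ) : σ = 1 ∧ τ = 1 := by
  have hz := KFacts.SysOut.mem_T_of_fix R (GG_eq_top hG1) (KFacts.SysOut.fix_U_of_tau R B)
    (KFacts.RgdOver.fix_UN_of_tau R B)
  exact Tau.unique R C B (tau_conj R C hz)

/-- **The outer automorphism.** -/
theorem exists_outHom (H : Coroots A T X χ hh)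
    (hconn : ∀ J : Set I, J.Nonempty → J ≠ Set.univ → ∃ a ∈ J, ∃ b, b ∉ J ∧ M a b ≠ 2)
    (hA : ∀ σ : Equiv.Perm I, (∀ i j, M (σ i) (σ j) = M i j) → ∀ i j, A (σ i) (σ j) = A i j) :
    ∃ l : MulAut Y →* Equiv.Perm I × (F ≃+* F),
    (∀ y, l (MulAut.conj y) = 1) ∧
    (∀ α, ∃ y β, α = MulAut.conj y * β ∧ Tau T X χ A β (l α).1 (l α).2) ∧
    (∀ β σ τ, Tau T X χ A β σ τ → l β = (σ, τ)) := by
  classical
  have h1 : ∀ α : MulAut Y, ∃ q : Equiv.Perm I × (F ≃+* F), ∃ (y : Y) (β : MulAut Y),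
      α = MulAut.conj y * β ∧ Tau T X χ A β q.1 q.2 := by
    intro α
    obtain ⟨y, β, hβ, h1⟩ := H936.exists_frame_mul R hG1 α
    obtain ⟨σ, D⟩ := exists_diag R (GG_eq_top hG1) hβ.1 hβ.2
    obtain ⟨τ, h2⟩ := exists_tau R C H hconn D (hA σ (D.matrix R))
    exact ⟨(σ, τ), y, β, h1, h2⟩
  choose q hq using h1
  have huniq : ∀ (α : MulAut Y) (y : Y) (β : MulAut Y) (σ : Equiv.Perm I) (τ : F ≃+* F), α = MulAut.conj y * β →
      Tau T X χ A β σ τ → q α = (σ, τ) := by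
    intro α y β σ τ h1 h2
    obtain ⟨y', β', h3, h4⟩ := hq α
    have h5 : Tau T X χ A (β' * β⁻¹) ((q α).1 * σ⁻¹) ((q α).2 * τ⁻¹) := h4.mul h2.inv
    have h6 : β' * β⁻¹ = MulAut.conj (y'⁻¹ * y) := by
      rw [h1] at h3
      have h7 : β' = MulAut.conj y'⁻¹ * (MulAut.conj y * β) := by
        rw [h3, ← mul_assoc, ← map_mul, inv_mul_cancel, map_one, one_mul]
      rw [h7, map_mul]; group
    rw [h6] at h5
    obtain ⟨h7, h8⟩ := tau_inner R hG1 C h5
    exact Prod.ext (mul_inv_eq_one.1 h7) (mul_inv_eq_one.1 h8)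
  have hmul : ∀ α γ, q (α * γ) = q α * q γ := by
    intro α γ
    obtain ⟨y, β, h1, h2⟩ := hq α
    obtain ⟨y', β', h3, h4⟩ := hq γ
    refine huniq _ (y * β y') (β * β') _ _ ?_ (h2.mul h4)
    rw [h1, h3]
    ext z
    simp only [MulAut.mul_apply, MulAut.conj_apply, map_mul, map_inv, mul_inv_rev, mul_assoc]
  refine ⟨MonoidHom.mk' q hmul, fun y => ?_, fun α => hq α, fun β σ τ hB => ?_⟩
  · exact huniq _ y 1 1 1 (by rw [mul_one]) Tau.one
  · exact huniq _ 1 β σ τ (by rw [map_one, one_mul]) hB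

end Cfsg.Agent.H728.Ext
end

-- part: H804/KB/AbChev
section
/-!
# S4822, AO6: the outer automorphism homomorphism of `E₆(q)`, `E₇(q)`; `ab_chev` (helper804)

* `exists_outHom_E6`, `exists_outHom_E7` ;
* `commOut_E7`, `commOut_E6` (if `gcd(3, q - 1) = 1`);
* `ab_chev`.
-/

set_option autoImplicit false
set_option linter.unusedSectionVars false

open Cfsg

namespace Cfsg.Agent.H804.KB

open CoxeterSystem Cfsg.Agent.ChevalleyStructure.CoxeterGeom Cfsg.Agent.Tits.Roots Cfsg.Agent.Tits.Core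
  Cfsg.Agent.Nodes.Reps Cfsg.Agent.Nodes.BNOf Cfsg.Agent.Nodes.OppDec Cfsg.Agent.Nodes.RGDChev
open Cfsg.Agent.KFacts.RgdAut Cfsg.Agent.KFacts.RgdDiag Cfsg.Agent.KFacts.RgdRigid
  Cfsg.Agent.KFacts.RgdField Cfsg.Agent.KFacts.RgdTau Cfsg.Agent.KFacts.RgdChevCoord
open Cfsg.Lie Cfsg.Agent.ChevalleyStructure Cfsg.Agent.ChevalleyStructure.Elts
  Cfsg.Agent.ChevalleyStructure.NPerm Cfsg.Agent.ChevalleyStructure.CoxeterGeomTypes
open Cfsg.Agent.H35.ExcIdx (hpE6 hpE7)
open Cfsg.Agent.H804.Ext (laced_E6 laced_E7 exists_ne_of)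

/-- the symmetries of the diagram of type `E₆` -/
theorem vals_E6 {σ : Equiv.Perm (Fin 6)} (hσ : ∀ i j, CoxeterMatrix.E₆ (σ i) (σ j) = CoxeterMatrix.E₆ i j) :
    (∀ i, σ i = i) ∨ ∀ i, σ i = ![5, 1, 4, 3, 2, 0] i := by
  have h1 : ∀ i, ![2, 3, 4, 5, 4, 2] (σ i) = ![2, 3, 4, 5, 4, 2] i := by
    refine Cfsg.Agent.CpAut.RgdUntw.inv_step hσ (g := ![1, 1, 2, 3, 2, 1]) ?_ (by decide)
    exact Cfsg.Agent.CpAut.RgdUntw.inv_step hσ (g := fun _ => 1) (fun _ => rfl) (by decide)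
  have k2 : ∀ a : Fin 6, ![2, 3, 4, 5, 4, 2] a = 2 → a = 0 ∨ a = 5 := by decide
  have k3 : ∀ a : Fin 6, ![2, 3, 4, 5, 4, 2] a = 3 → a = 1 := by decide
  have k4 : ∀ a : Fin 6, ![2, 3, 4, 5, 4, 2] a = 4 → a = 2 ∨ a = 4 := by decide
  have k5 : ∀ a : Fin 6, ![2, 3, 4, 5, 4, 2] a = 5 → a = 3 := by decide
  have a1 := k3 _ (h1 1)
  have a3 := k5 _ (h1 3)
  have e02 : CoxeterMatrix.E₆ (σ 0) (σ 2) = 3 := (hσ 0 2).trans (by decide +kernel)
  have e54 : CoxeterMatrix.E₆ (σ 5) (σ 4) = 3 := (hσ 5 4).trans (by decide +kernel)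
  have e05 : σ 0 ≠ σ 5 := fun e => absurd (σ.injective e) (by decide)
  have b04 : CoxeterMatrix.E₆ 0 4 ≠ 3 := by decide +kernel
  have b52 : CoxeterMatrix.E₆ 5 2 ≠ 3 := by decide +kernel
  rcases k2 _ (h1 0) with a0 | a0
  · have a5 : σ 5 = 5 := (k2 _ (h1 5)).resolve_left fun h => e05 (a0.trans h.symm)
    have a2 : σ 2 = 2 := (k4 _ (h1 2)).resolve_right fun h => b04 (by rw [a0, h] at e02; exact e02)
    have a4 : σ 4 = 4 := (k4 _ (h1 4)).resolve_left fun h => b52 (by rw [a5, h] at e54; exact e54)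
    left; intro i; fin_cases i <;> assumption
  · have a5 : σ 5 = 0 := (k2 _ (h1 5)).resolve_right fun h => e05 (a0.trans h.symm)
    have a2 : σ 2 = 4 := (k4 _ (h1 2)).resolve_left fun h => b52 (by rw [a0, h] at e02; exact e02)
    have a4 : σ 4 = 2 := (k4 _ (h1 4)).resolve_right fun h => b04 (by rw [a5, h] at e54; exact e54)
    right; intro i; fin_cases i <;> assumption

/-- the symmetries of the diagram of type `E₆` commute -/
theorem comm_E6 {σ σ' : Equiv.Perm (Fin 6)} (hσ : ∀ i j, CoxeterMatrix.E₆ (σ i) (σ j) = CoxeterMatrix.E₆ i j)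
    (hσ' : ∀ i j, CoxeterMatrix.E₆ (σ' i) (σ' j) = CoxeterMatrix.E₆ i j) : σ * σ' = σ' * σ := by
  apply Equiv.ext
  intro i
  rw [Equiv.Perm.mul_apply, Equiv.Perm.mul_apply]
  rcases vals_E6 hσ with h | h <;> rcases vals_E6 hσ' with h' | h'
  · rw [h, h]
  · rw [h, h]
  · rw [h', h']
  · rw [h, h', h', h]

section

variable {K : Type} [Field K] [Fintype K] {r f : ℕ} (hr : r.Prime) (hf : f ≠ 0)
  (hK : Fintype.card K = r ^ f) [CharP K r]

include hr hf hK in
/-- the outer automorphism homomorphism of `E₇(q)` -/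
theorem exists_outHom_E7 [IsSimpleGroup ↥(chevE7.group K)] (hc : ∃ a b : ↥(chevE7.group K), a * b ≠ b * a) :
    ∃ l : MulAut ↥(chevE7.group K) →* Equiv.Perm (Fin 7) × (K ≃+* K), (∀ y, l (MulAut.conj y) = 1) ∧
      ∀ τ, ∃ β, (l β).2 = τ := by
  have hfr : Fact r.Prime := ⟨hr⟩
  have hfin := Cfsg.Agent.H53.HC.ExcRows.finite_group (K := K) chevE7
  have D := Cfsg.Agent.H35.ExcIdx.data_E7_3 hr hf hK
  have hW := D.fin
  have hG1 : RGD.Sup (Cfsg.Agent.KFacts.RgdChevCoord.XX chevE7 7 K)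
      {x | IsRoot CoxeterMatrix.E₇.toCoxeterSystem hpE7.isCartan x} = ⊤ := G1_eq_top hpE7 CoxeterMatrix.E₇.toCoxeterSystem
  have hZ := KFacts.RgdLieCharP.center_eq_bot hc
  have hconn := KFacts.RgdLieCharP.conn_of_simple D.rgd hG1 hZ
  have C := coords (K := K) hpE7 CoxeterMatrix.E₇.toCoxeterSystem r
  have H := coroots (K := K) hpE7 CoxeterMatrix.E₇.toCoxeterSystem r
  obtain ⟨l, hl1, hl2, hl3⟩ := H728.Ext.exists_outHom D.rgd hG1 C H hconn
    fun σ hσ => cartan_of_laced hpE7.isCartan laced_E7 hσ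
  refine ⟨l, hl1, fun τ => ⟨Cfsg.Agent.CpAut.RgdUntw.fld chevE7 τ, ?_⟩⟩
  have h1 := hl3 (Cfsg.Agent.CpAut.RgdUntw.fld chevE7 τ) 1 τ
    (Cfsg.Agent.CpAut.RgdConj.tau_of_std D.rgd hG1 C H hconn (by
      intro v hv a
      obtain ⟨s, hs, rfl⟩ := (isRoot_iff hpE7 CoxeterMatrix.E₇.toCoxeterSystem v).1 hv
      exact Cfsg.Agent.CpAut.RgdUntw.fld_xc hpE7 τ hs a))
  rw [h1]

include hr hf hK in
/-- the outer automorphism homomorphism of `E₆(q)` -/
theorem exists_outHom_E6 [IsSimpleGroup ↥(chevE6.group K)] (hc : ∃ a b : ↥(chevE6.group K), a * b ≠ b * a) :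
    ∃ l : MulAut ↥(chevE6.group K) →* Equiv.Perm (Fin 6) × (K ≃+* K), (∀ y, l (MulAut.conj y) = 1) ∧
      (∀ α β, l (α * β * α⁻¹ * β⁻¹) = 1) ∧
      (∀ φ σ, Diag (Cfsg.Agent.KFacts.RgdChevCoord.TT chevE6 K) (Cfsg.Agent.KFacts.RgdChevCoord.XX chevE6 6 K) φ σ →
        ∃ τ, l φ = (σ, τ)) ∧
      (∀ β σ τ, Tau (Cfsg.Agent.KFacts.RgdChevCoord.TT chevE6 K)
        (Cfsg.Agent.KFacts.RgdChevCoord.XX chevE6 6 K)
        (ch hpE6) (cartanOf chevE6 6) β σ τ → l β = (σ, τ)) ∧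
      (∀ τ, ∃ β, l β = (1, τ)) ∧
      (∀ α, l α = 1 → ∃ y β, α = MulAut.conj y * β ∧ Tau (Cfsg.Agent.KFacts.RgdChevCoord.TT chevE6 K)
        (Cfsg.Agent.KFacts.RgdChevCoord.XX chevE6 6 K)
        (ch hpE6) (cartanOf chevE6 6) β 1 1) := by
  have hfr : Fact r.Prime := ⟨hr⟩
  have hfin := Cfsg.Agent.H53.HC.ExcRows.finite_group (K := K) chevE6
  have D := Cfsg.Agent.H35.ExcIdx.data_E6_3 hr hf hK
  have hW := D.fin
  have hG1 : RGD.Sup (Cfsg.Agent.KFacts.RgdChevCoord.XX chevE6 6 K)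
      {x | IsRoot CoxeterMatrix.E₆.toCoxeterSystem hpE6.isCartan x} = ⊤ := G1_eq_top hpE6 CoxeterMatrix.E₆.toCoxeterSystem
  have hZ := KFacts.RgdLieCharP.center_eq_bot hc
  have hconn := KFacts.RgdLieCharP.conn_of_simple D.rgd hG1 hZ
  have C := coords (K := K) hpE6 CoxeterMatrix.E₆.toCoxeterSystem r
  have H := coroots (K := K) hpE6 CoxeterMatrix.E₆.toCoxeterSystem r
  obtain ⟨l, hl1, hl2, hl3⟩ := H728.Ext.exists_outHom D.rgd hG1 C H hconn
    fun σ hσ => cartan_of_laced hpE6.isCartan laced_E6 hσ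
  refine ⟨l, hl1, fun α β => ?_, fun φ σ hφ => ?_, hl3, fun τ => ⟨Cfsg.Agent.CpAut.RgdUntw.fld chevE6 τ, ?_⟩,
    fun α hα => ?_⟩
  · obtain ⟨-, α', -, hα⟩ := hl2 α
    obtain ⟨-, β', -, hβ⟩ := hl2 β
    have hC : IsCyclic (K ≃+* K) := LieRecognition.FieldSemilinear.isCyclic_ringAut K
    have h1 : l α * l β = l β * l α := by
      refine Prod.ext (comm_E6 (hα.diag.matrix D.rgd) (hβ.diag.matrix D.rgd)) ?_
      exact IsCyclic.commGroup.mul_comm _ _
    rw [map_mul, map_mul, map_mul, map_inv, map_inv, h1]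
    group
  · obtain ⟨τ, h2⟩ := exists_tau D.rgd C H hconn hφ (cartan_of_laced hpE6.isCartan laced_E6 (hφ.matrix D.rgd))
    exact ⟨τ, hl3 _ _ _ h2⟩
  · exact hl3 (Cfsg.Agent.CpAut.RgdUntw.fld chevE6 τ) 1 τ
      (Cfsg.Agent.CpAut.RgdConj.tau_of_std D.rgd hG1 C H hconn (by
        intro v hv a
        obtain ⟨s, hs, rfl⟩ := (isRoot_iff hpE6 CoxeterMatrix.E₆.toCoxeterSystem v).1 hv
        exact Cfsg.Agent.CpAut.RgdUntw.fld_xc hpE6 τ hs a))
  · obtain ⟨y, β, h1, h2⟩ := hl2 α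
    rw [hα] at h2
    exact ⟨y, β, h1, h2⟩

include hr hf hK in
theorem commOut_E7 [IsSimpleGroup ↥(chevE7.group K)] (hc : ∃ a b : ↥(chevE7.group K), a * b ≠ b * a) :
    CommOut ↥(chevE7.group K) := by
  have hfr : Fact r.Prime := ⟨hr⟩
  have hfin := Cfsg.Agent.H53.HC.ExcRows.finite_group (K := K) chevE7
  have hC : IsCyclic (K ≃+* K) := LieRecognition.FieldSemilinear.isCyclic_ringAut K
  have hCf : Finite (K ≃+* K) := Finite.of_injective (fun f : K ≃+* K => (f : K → K)) DFunLike.coe_injective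
  obtain ⟨l, hl1, hl2⟩ := exists_outHom_E7 hr hf hK hc
  have hcard := Cfsg.Agent.H70.OutE.card_out_E7 (p := r) hK
  have hcardF : Nat.card (K ≃+* K) = f :=
    Cfsg.Agent.Lib.FieldAutCard.card_ringAut (Nat.one_le_iff_ne_zero.2 hf) hK
  refine commOut_of_hom ((MonoidHom.snd _ _).comp l) (fun τ => ?_) (fun g => ?_)
    (m := Nat.gcd 2 (r ^ f - 1)) (by rw [hcard, hcardF]) (Nat.gcd_le_left _ (by norm_num))
  · obtain ⟨β, hβ⟩ := hl2 τ
    exact ⟨β, hβ⟩
  · rw [MonoidHom.comp_apply, hl1]; rfl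

section perm

open Cfsg.Agent.H70.ChevFix Cfsg.Agent.H70.ChevField
open scoped Pointwise

theorem mem_of_smul_eq {G : Type*} [Group G] {φ : MulAut G} {A B : Subgroup G} (h : φ • A = B) (x : G) :
    φ x ∈ B ↔ x ∈ A := by
  rw [← h, Subgroup.mem_pointwise_smul_iff_inv_smul_mem]
  change φ⁻¹ (φ x) ∈ A ↔ x ∈ A
  rw [MulAut.inv_apply_self]

/-- permutation automorphisms are frame automorphisms -/
theorem diag_of_perm_E6 {φ : MulAut ↥(chevE6.group K)} {π : Equiv.Perm (Fin 6)} (hπ : Perm chevE6 K φ π) :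
    Diag (Cfsg.Agent.KFacts.RgdChevCoord.TT chevE6 K) (Cfsg.Agent.KFacts.RgdChevCoord.XX chevE6 6 K) φ π where
  tor := by
    have h1 := Perm.smul_UU Cfsg.Agent.H70.OutE.inList_E6 hπ
    have h2 := Perm.smul_VN Cfsg.Agent.H70.OutE.inList_E6 hπ
    have h3 : φ • Cfsg.Agent.KFacts.RgdChevCoord.TT chevE6 K = Cfsg.Agent.KFacts.RgdChevCoord.TT chevE6 K := by
      have h4 := normalizer_inf (F := K) Cfsg.Agent.H70.OutE.inList_E6
      have h5 : Cfsg.Agent.KFacts.RgdChevCoord.TT chevE6 K = _ := h4.symm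
      rw [h5, Subgroup.smul_inf, Cfsg.Agent.H70.AutFix.smul_normalizer, Cfsg.Agent.H70.AutFix.smul_normalizer, h1, h2]
    exact fun x => mem_of_smul_eq h3 x
  pos i x := by
    refine mem_of_smul_eq ?_ x
    have h1 := hπ.pos i
    change φ • ((XV chevE6 6 K (sr i)).subgroupOf _) = (XV chevE6 6 K (sr (π i))).subgroupOf _
    rw [XV_sr hpE6, XV_sr hpE6]
    exact h1
  neg i x := by
    refine mem_of_smul_eq ?_ x
    have h1 := hπ.neg i
    change φ • ((XV chevE6 6 K (-sr i)).subgroupOf _) = (XV chevE6 6 K (-sr (π i))).subgroupOf _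
    rw [XV_neg_sr hpE6, XV_neg_sr hpE6]
    exact h1

end perm

include hr hf hK in
/-- **The order of the image of the outer automorphism homomorphism of `E₆(q)`.** -/
theorem exists_hom_E6 [IsSimpleGroup ↥(chevE6.group K)] (hc : ∃ a b : ↥(chevE6.group K), a * b ≠ b * a) :
    ∃ l : MulAut ↥(chevE6.group K) →* Equiv.Perm (Fin 6) × (K ≃+* K), (∀ y, l (MulAut.conj y) = 1) ∧
      (∀ α β, l (α * β * α⁻¹ * β⁻¹) = 1) ∧
      (∀ β σ τ, Tau (Cfsg.Agent.KFacts.RgdChevCoord.TT chevE6 K)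
        (Cfsg.Agent.KFacts.RgdChevCoord.XX chevE6 6 K)
        (ch hpE6) (cartanOf chevE6 6) β σ τ → l β = (σ, τ)) ∧
      Nat.card (Cfsg.Out ↥(chevE6.group K)) ≤ Nat.gcd 3 (r ^ f - 1) * Nat.card l.range := by
  have hfr : Fact r.Prime := ⟨hr⟩
  have hfin := Cfsg.Agent.H53.HC.ExcRows.finite_group (K := K) chevE6
  have hCf : Finite (K ≃+* K) := Finite.of_injective (fun f : K ≃+* K => (f : K → K)) DFunLike.coe_injective
  obtain ⟨l, hl1, hl2, hl3, hl4, hl5, -⟩ := exists_outHom_E6 hr hf hK hc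
  refine ⟨l, hl1, hl2, hl4, ?_⟩
  have hcard := Cfsg.Agent.H70.OutE.card_out_E6 (p := r) hK
  have hcardF : Nat.card (K ≃+* K) = f :=
    Cfsg.Agent.Lib.FieldAutCard.card_ringAut (Nat.one_le_iff_ne_zero.2 hf) hK
  obtain ⟨φ6, γ, τ₀, hτ₀, hne⟩ : ∃ (φ6 : Equiv.Perm (Fin 6)) (γ : MulAut ↥(chevE6.group K)) (τ₀ : K ≃+* K),
      l γ = (φ6, τ₀) ∧ φ6 ≠ 1 := by
    obtain ⟨γ, hγ⟩ := Cfsg.Agent.H70.OutE.flip_realised (F := K)
    obtain ⟨τ₀, hτ₀⟩ := hl3 γ Cfsg.Agent.H70.OutE.flip (diag_of_perm_E6 hγ)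
    exact ⟨_, γ, τ₀, hτ₀, Cfsg.Agent.H70.OutE.flip_ne_one⟩
  choose b hb using hl5
  have h1 : Nat.card (Bool × (K ≃+* K)) ≤ Nat.card l.range := by
    let g : Bool × (K ≃+* K) → l.range := fun x => ⟨l (b x.2 * if x.1 then γ else 1), _, rfl⟩
    have hg : ∀ x : Bool × (K ≃+* K), ((g x : l.range) : Equiv.Perm (Fin 6) × (K ≃+* K)) =
        (if x.1 then φ6 else 1, x.2 * if x.1 then τ₀ else 1) := by
      rintro ⟨x, τ⟩
      change l (b τ * if x then γ else 1) = _
      rw [map_mul, hb]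
      cases x
      · simp only [_root_.Bool.false_eq_true, ↓ _root_.reduceIte, _root_.map_one, _root_.mul_one]
      · simp only [if_true, hτ₀]
        exact Prod.ext (one_mul _) rfl
    refine Nat.card_le_card_of_injective g ?_
    rintro ⟨x, τ⟩ ⟨x', τ'⟩ h
    have h2 := congrArg Subtype.val h
    rw [hg, hg] at h2
    have h3 := congrArg Prod.fst h2
    have h4 := congrArg Prod.snd h2
    cases x <;> cases x' <;> simp only [_root_.Bool.false_eq_true, ↓ _root_.reduceIte, _root_.mul_one, _root_.Prod.mk.injEq, _root_.true_and, _root_.false_and, _root_.Bool.true_eq_false, _root_.mul_left_inj] at h3 h4 ⊢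
    · exact h4
    · exact absurd h3.symm hne
    · exact absurd h3 hne
    · exact h4
  rw [Nat.card_prod, hcardF] at h1
  have h2 : Nat.card Bool = 2 := by simp
  rw [h2] at h1
  rw [hcard]
  calc 2 * Nat.gcd 3 (r ^ f - 1) * f = Nat.gcd 3 (r ^ f - 1) * (2 * f) := by ring
    _ ≤ _ := Nat.mul_le_mul_left _ h1

include hr hf hK in
/-- the outer automorphism group of `E₆(q)` is abelian if `gcd(3, q - 1) = 1` -/
theorem commOut_E6 [IsSimpleGroup ↥(chevE6.group K)] (hc : ∃ a b : ↥(chevE6.group K), a * b ≠ b * a)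
    (h3 : Nat.gcd 3 (r ^ f - 1) = 1) : CommOut ↥(chevE6.group K) := by
  have hfin := Cfsg.Agent.H53.HC.ExcRows.finite_group (K := K) chevE6
  obtain ⟨l, h1, h2, -, h4⟩ := exists_hom_E6 hr hf hK hc
  rw [h3] at h4
  exact commOut_of_ker l h1 h2 h4

end

section main

open Cfsg.Agent.H508.KB

universe u

variable {p : ℕ} [Fact p.Prime] {r : ℕ} [Fact r.Prime]

theorem exists_rf (F : Type) [Field F] [Fintype F] [CharP F r] : ∃ f : ℕ, f ≠ 0 ∧ Fintype.card F = r ^ f := by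
  obtain ⟨n, hr, hn⟩ := FiniteField.card F r
  exact ⟨n, n.ne_zero, hn⟩

/-- **AO6: `G₂(q)`, `F₄(q)`, `E₇(q)`, `E₈(q)`.** -/
theorem ab_chev {S : Type u} [Group S] [Finite S] [IsSimpleGroup S] (_ : r ≠ p) (_ : 5 ≤ p) {F : Type} [Field F]
    [Fintype F] [CharP F r]
    (e : (3 ≤ Fintype.card F ∧ Nonempty (S ≃* Lie.chevG2.group F)) ∨ Nonempty (S ≃* Lie.chevF4.group F) ∨
      Nonempty (S ≃* Lie.chevE7.group F) ∨ Nonempty (S ≃* Lie.chevE8.group F)) : AbOut p S := by
  rcases e with ⟨h3, ⟨e⟩⟩ | ⟨⟨e⟩⟩ | ⟨⟨e⟩⟩ | ⟨⟨e⟩⟩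
  · exact (((commOut_of_cycOut (H523.Chev.cycOut_G2 h3)).of_equiv e).abP p).abOut
  · exact (((commOut_of_cycOut H523.Chev.cycOut_F4).of_equiv e).abP p).abOut
  · obtain ⟨f, hf, hK⟩ := exists_rf (r := r) F
    obtain ⟨hs, hna⟩ := Cfsg.Agent.S1054.result (F := F) chevE7 (by simp)
    exact (((commOut_E7 (Fact.out : r.Prime) hf hK (exists_ne_of hna)).of_equiv e).abP p).abOut
  · exact (((commOut_of_cycOut H523.Chev.cycOut_E8).of_equiv e).abP p).abOut

end main

end Cfsg.Agent.H804.KB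
end
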